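import Mathlib
import Groth.Prelude.Def_AlgGrp
import Groth.Agent.Lib.Helper24.KerProp.Basic

/-!
# Helper24 — a finite scheme over a field with a rational point is connected iff it is
universally injective over the field; application to kernels of isogenies.
-/

set_option backward.isDefEq.respectTransparency.types false

universe u
open CategoryTheory MonoidalCategory CartesianMonoidalCategory MonObj AlgebraicGeometry Limits

namespace Groth.Agent.Lib.Helper24.KerProp

theorem isDomain_Γ_Spec (K : Type u) [Field K] : IsDomain Γ(Spec (CommRingCat.of K), ⊤) :=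
  (Scheme.ΓSpecIso (CommRingCat.of K)).commRingCatIsoToRingEquiv.toMulEquiv.isDomain K

theorem universallyInjective_of_connected {k : Type u} [Field k] {N : Scheme.{u}}
    (p : N ⟶ Spec (CommRingCat.of k)) [IsFinite p] [ConnectedSpace N]
    (e : Spec (CommRingCat.of k) ⟶ N) (he : e ≫ p = 𝟙 _) : UniversallyInjective p := by
  haveI : IsAffine N := isAffine_of_isAffineHom p
  -- `Γ(N, ⊤)` is artinian
  have hfin : ((Scheme.ΓSpecIso (CommRingCat.of k)).inv ≫ p.appTop).hom.Finite := by
    rw [CommRingCat.hom_comp]
    refine RingHom.Finite.comp p.finite_appTop ?_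
    exact RingHom.Finite.of_surjective _
      (ConcreteCategory.bijective_of_isIso (Scheme.ΓSpecIso (CommRingCat.of k)).inv).2
  haveI : IsArtinianRing Γ(N, ⊤) := by
    algebraize [((Scheme.ΓSpecIso (CommRingCat.of k)).inv ≫ p.appTop).hom]
    exact IsArtinianRing.of_finite k Γ(N, ⊤)
  haveI : ConnectedSpace (PrimeSpectrum Γ(N, ⊤)) :=
    (Scheme.homeoOfIso N.isoSpec).surjective.connectedSpace
      (Scheme.homeoOfIso N.isoSpec).continuous
  haveI : Subsingleton (PrimeSpectrum Γ(N, ⊤)) := PreconnectedSpace.trivial_of_discrete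
  -- the augmentation
  haveI := isDomain_Γ_Spec k
  have hs : p.appTop ≫ e.appTop = 𝟙 _ := by
    rw [← Scheme.Hom.comp_appTop, he]
    rfl
  refine ((tfae_universallyInjective p).out 0 1).2 ?_
  intro K _ g₁ g₂ hg
  apply ext_of_isAffine
  haveI := isDomain_Γ_Spec K
  have hker : ∀ g : Spec (CommRingCat.of K) ⟶ N, RingHom.ker g.appTop.hom = RingHom.ker e.appTop.hom := by
    intro g
    have : (⟨RingHom.ker g.appTop.hom, RingHom.ker_isPrime _⟩ : PrimeSpectrum Γ(N, ⊤)) =
        ⟨RingHom.ker e.appTop.hom, RingHom.ker_isPrime _⟩ := Subsingleton.elim _ _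
    exact congrArg PrimeSpectrum.asIdeal this
  have hgs : p.appTop ≫ g₁.appTop = p.appTop ≫ g₂.appTop := by
    rw [← Scheme.Hom.comp_appTop, ← Scheme.Hom.comp_appTop]
    exact congrArg Scheme.Hom.appTop hg
  refine CommRingCat.hom_ext (RingHom.ext fun a => ?_)
  have ha : a - p.appTop.hom (e.appTop.hom a) ∈ RingHom.ker e.appTop.hom := by
    rw [RingHom.mem_ker, map_sub, sub_eq_zero]
    have := congrArg (fun φ => φ.hom (e.appTop.hom a)) hs
    simp only [CommRingCat.hom_comp, RingHom.comp_apply, CommRingCat.hom_id, RingHom.id_apply] at this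
    exact this.symm
  have h1 : g₁.appTop.hom a = g₁.appTop.hom (p.appTop.hom (e.appTop.hom a)) := by
    have := ha
    rw [← hker g₁, RingHom.mem_ker, map_sub, sub_eq_zero] at this
    exact this
  have h2 : g₂.appTop.hom a = g₂.appTop.hom (p.appTop.hom (e.appTop.hom a)) := by
    have := ha
    rw [← hker g₂, RingHom.mem_ker, map_sub, sub_eq_zero] at this
    exact this
  rw [h1, h2]
  have := congrArg (fun φ => φ.hom (e.appTop.hom a)) hgs
  simpa only [CommRingCat.hom_comp, RingHom.comp_apply] using this

theorem connected_of_universallyInjective {k : Type u} [Field k] {N : Scheme.{u}}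
    (p : N ⟶ Spec (CommRingCat.of k)) [UniversallyInjective p]
    (e : Spec (CommRingCat.of k) ⟶ N) : ConnectedSpace N := by
  haveI : Subsingleton (Spec (CommRingCat.of k)) := inferInstanceAs (Subsingleton (PrimeSpectrum k))
  haveI : Subsingleton N := p.injective.subsingleton
  haveI : Nonempty N := ⟨e (default : PrimeSpectrum k)⟩
  infer_instance

end Groth.Agent.Lib.Helper24.KerProp

namespace Groth.Agent.Lib.Helper24.KerProp

theorem main16676 {k : Type u} [Field k] {X Y N : Over (Spec (CommRingCat.of k))}
    [GrpObj X] [GrpObj Y] (f : X ⟶ Y) [IsMonHom f] [IsFinite f.left] [Flat f.left]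
    [Surjective f.left] (i : N ⟶ X) (hN : AlgGrp.IsKernel i f) :
    UniversallyInjective f.left ↔ ConnectedSpace ↥N.left := by
  rw [hom_iff_kernel @UniversallyInjective hN]
  haveI : IsFinite N.hom := kernel_of_hom @IsFinite hN inferInstance
  obtain ⟨n, -⟩ := exists_of_comp_eq_one hN (1 : 𝟙_ _ ⟶ X) (MonObj.one_comp f)
  have hn : n.left ≫ N.hom = 𝟙 _ := by
    rw [Over.w n]
    rfl
  constructor
  · intro h
    exact connected_of_universallyInjective N.hom n.left
  · intro h
    exact universallyInjective_of_connected N.hom n.left hn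

end Groth.Agent.Lib.Helper24.KerProp
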